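import Cfsg.Agent.Lib.J4M24Bound96.Rel.Steps1

/-! Generated summary (`Rel`). -/

namespace Cfsg.Agent.Lib.J4M24Bound96.Rel

open Cfsg.Agent.Lib.CosetTable

set_option maxRecDepth 10000

theorem steps : cert.Upto 236 := part1 (ICert.Upto.zero _)

theorem rules_ok : cert.rulesOK cert.cyc cert.C.rules = true := by decide +kernel

theorem words_ok : cert.wordsOK = true := by decide +kernel

theorem path0_ok : cert.follow 236 0 40 path0 0 word0 = true := by decide +kernel

theorem path1_ok : cert.follow 236 0 27 path1 0 word1 = true := by decide +kernel

theorem path2_ok : cert.follow 236 0 72 path2 0 word2 = true := by decide +kernel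

end Cfsg.Agent.Lib.J4M24Bound96.Rel
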